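import Mathlib
import Cfsg.Agent.Lib.Helper13.SympGen
import Cfsg.Agent.Lib.Helper13.SympSplit
import Cfsg.Agent.Lib.Helper43.SUMD.Basic

/-!
# Project SPMD (helper43): minimal degree of `Sp_2n(q)`, `q` odd (S2347) — definitions

`SpG n F = Matrix.symplecticGroup (Fin n) F`, `ω = Cfsg.sympForm n F` on `Vec n F = Fin n ⊕ Fin n → F`
(helper13's libraries `Symp`, `SympTrans`, `SympGen`, `SympSplit`), `tvElt v c : x ↦ x + c ω(x,v) v`.

* `Zs v` : the transvection group `{tvElt v c}`;
* `Qs v` : the Heisenberg group `{x ↦ x + ω(x,v) u + ω(x,u) v + β ω(x,v) v | u ⟂ v, β}`;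
* `A2s v v'` : the group generated by the transvections `tvElt (a v + b v') c`;
* `wtv ρ ψ v s` : the weight space `{x | ρ (tvElt v c) x = ψ (s c) x}` of `Z_v` for the additive character `ψ`;
* `fixedSp`, `wtSp` : from project SUMD (`Cfsg.Agent.Lib.Helper43.SUMD`).
-/

set_option autoImplicit false

namespace Cfsg.Agent.Lib.Helper43.SPMD

open Matrix Module Cfsg.Agent.Lib.Helper13 Cfsg.Agent.Lib.Helper43.SUMD

/-- vectors of the symplectic space -/
abbrev Vec (n : ℕ) (F : Type*) := Fin n ⊕ Fin n → F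

/-- the symplectic group -/
abbrev SpG (n : ℕ) (F : Type*) [Field F] := ↥(Matrix.symplecticGroup (Fin n) F)

section groups
variable {n : ℕ} {F : Type*} [Field F]

/-- the matrix of an element of `SpG` -/
def sm (g : SpG n F) : Matrix (Fin n ⊕ Fin n) (Fin n ⊕ Fin n) F := g.1

theorem sm_mul (g h : SpG n F) : sm (g * h) = sm g * sm h := rfl

theorem sm_one : sm (1 : SpG n F) = 1 := rfl

theorem sm_injective : Function.Injective (sm : SpG n F → Matrix (Fin n ⊕ Fin n) (Fin n ⊕ Fin n) F) :=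
  fun _ _ h => Subtype.ext h

theorem sm_preserves (g : SpG n F) (x y : Vec n F) :
    Cfsg.sympForm n F (sm g *ᵥ x) (sm g *ᵥ y) = Cfsg.sympForm n F x y :=
  sympForm_mulVec_of_mem g.2 x y

theorem sm_inv_mul (g : SpG n F) : sm g⁻¹ * sm g = 1 := by
  rw [← sm_mul, inv_mul_cancel, sm_one]

theorem sm_mul_inv (g : SpG n F) : sm g * sm g⁻¹ = 1 := by
  rw [← sm_mul, mul_inv_cancel, sm_one]

theorem sm_tvElt (v : Vec n F) (c : F) : sm (tvElt v c) = Cfsg.sympTransvection n v c := rfl

theorem sm_tvElt_mulVec (v : Vec n F) (c : F) (x : Vec n F) :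
    sm (tvElt v c) *ᵥ x = x + (c * Cfsg.sympForm n F x v) • v := sympTransvection_mulVec v c x

theorem tvElt_mul (v : Vec n F) (c d : F) : tvElt v c * tvElt v d = tvElt v (c + d) :=
  sm_injective (sympTransvection_mul v c d)

theorem tvElt_zero (v : Vec n F) : tvElt v 0 = 1 := by
  apply sm_injective
  rw [Matrix.ext_iff_mulVec]
  intro x
  rw [sm_tvElt_mulVec, zero_mul, zero_smul, add_zero, sm_one, one_mulVec]

theorem tvElt_inv (v : Vec n F) (c : F) : (tvElt v c)⁻¹ = tvElt v (-c) := by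
  rw [inv_eq_iff_mul_eq_one, tvElt_mul, add_neg_cancel, tvElt_zero]

/-- `Z_v`: the transvection group of `v` -/
def Zs (v : Vec n F) : Subgroup (SpG n F) where
  carrier := {g | ∃ c : F, g = tvElt v c}
  one_mem' := ⟨0, (tvElt_zero v).symm⟩
  mul_mem' := by
    rintro _ _ ⟨c, rfl⟩ ⟨d, rfl⟩
    exact ⟨c + d, tvElt_mul v c d⟩
  inv_mem' := by
    rintro _ ⟨c, rfl⟩
    exact ⟨-c, tvElt_inv v c⟩

theorem mem_Zs (v : Vec n F) (g : SpG n F) : g ∈ Zs v ↔ ∃ c : F, g = tvElt v c := Iff.rfl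

theorem tvElt_mem_Zs (v : Vec n F) (c : F) : tvElt v c ∈ Zs v := ⟨c, rfl⟩

/-- the defining property of the elements of the Heisenberg group `Q_v` -/
def IsHeis (v u : Vec n F) (β : F) (g : SpG n F) : Prop :=
  ∀ x, sm g *ᵥ x = x + Cfsg.sympForm n F x v • u + Cfsg.sympForm n F x u • v +
    (β * Cfsg.sympForm n F x v) • v

/-- `Q_v`: the Heisenberg group `{x ↦ x + ω(x,v) u + ω(x,u) v + β ω(x,v) v | ω(u,v) = 0}` -/
def Qs (v : Vec n F) : Subgroup (SpG n F) where
  carrier := {g | ∃ (u : Vec n F) (β : F), Cfsg.sympForm n F u v = 0 ∧ IsHeis v u β g}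
  one_mem' := ⟨0, 0, sympForm_zero_left v, fun x => by
    rw [sm_one, one_mulVec, sympForm_zero_right]; simp⟩
  mul_mem' := by
    rintro g g' ⟨u, β, hu, hg⟩ ⟨u', β', hu', hg'⟩
    have hvu : Cfsg.sympForm n F v u = 0 := by rw [sympForm_swap, hu, neg_zero]
    have hvu' : Cfsg.sympForm n F v u' = 0 := by rw [sympForm_swap, hu', neg_zero]
    refine ⟨u + u', β + β' + Cfsg.sympForm n F u' u, ?_, ?_⟩
    · rw [sympForm_add_left, hu, hu', add_zero]
    · intro x
      rw [sm_mul, ← mulVec_mulVec, hg' x, hg]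
      simp only [sympForm_add_left, sympForm_add_right, sympForm_smul_left, sympForm_smul_right,
        sympForm_self, hu, hu', hvu, hvu', mul_zero, add_zero, zero_add]
      module
  inv_mem' := by
    rintro g ⟨u, β, hu, hg⟩
    have hvu : Cfsg.sympForm n F v u = 0 := by rw [sympForm_swap, hu, neg_zero]
    refine ⟨-u, -β, by rw [sympForm_neg_left, hu, neg_zero], ?_⟩
    intro x
    -- `g (x - ω(x,v) u - ω(x,u) v + β ω(x,v) v ... ) = x`
    have key : sm g *ᵥ (x + Cfsg.sympForm n F x v • (-u) + Cfsg.sympForm n F x (-u) • v +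
        (-β * Cfsg.sympForm n F x v) • v) = x := by
      rw [hg]
      simp only [sympForm_add_left, sympForm_add_right, sympForm_smul_left, sympForm_smul_right,
        sympForm_neg_left, sympForm_neg_right, sympForm_self, hu, hvu, mul_zero, add_zero,
        zero_add, neg_zero, mul_neg]
      module
    have := congrArg (fun y => sm g⁻¹ *ᵥ y) key
    simp only [mulVec_mulVec, sm_inv_mul, one_mulVec] at this
    exact this.symm

theorem mem_Qs (v : Vec n F) (g : SpG n F) :
    g ∈ Qs v ↔ ∃ (u : Vec n F) (β : F), Cfsg.sympForm n F u v = 0 ∧ IsHeis v u β g := Iff.rfl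

/-- `A₂`: the group generated by the transvection groups `Z_z`, `z ∈ ⟨v, v'⟩` -/
def A2s (v v' : Vec n F) : Subgroup (SpG n F) :=
  Subgroup.closure {g | ∃ a b c : F, g = tvElt (a • v + b • v') c}

end groups

section rep
variable {n : ℕ} {F : Type*} [Field F] {X : Type*} [AddCommGroup X] [Module ℂ X]

/-- the weight space of a family of operators `τ c`, `c ∈ F`, for the character `c ↦ ψ (s c)` -/
def wtτ (τ : F → Module.End ℂ X) (ψ : AddChar F ℂ) (s : F) : Submodule ℂ X where
  carrier := {x | ∀ c : F, τ c x = ψ (s * c) • x}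
  add_mem' := by
    intro a b ha hb c
    rw [map_add, ha c, hb c, smul_add]
  zero_mem' := by
    intro c
    rw [map_zero, smul_zero]
  smul_mem' := by
    intro k x hx c
    rw [map_smul, hx c, smul_comm]

theorem mem_wtτ (τ : F → Module.End ℂ X) (ψ : AddChar F ℂ) (s : F) (x : X) :
    x ∈ wtτ τ ψ s ↔ ∀ c : F, τ c x = ψ (s * c) • x := Iff.rfl

/-- the weight space of `Z_v` for the character `c ↦ ψ (s c)` -/
def wtv (ρ : Representation ℂ (SpG n F) X) (ψ : AddChar F ℂ) (v : Vec n F) (s : F) :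
    Submodule ℂ X := wtτ (fun c => ρ (tvElt v c)) ψ s

theorem mem_wtv (ρ : Representation ℂ (SpG n F) X) (ψ : AddChar F ℂ) (v : Vec n F) (s : F) (x : X) :
    x ∈ wtv ρ ψ v s ↔ ∀ c : F, ρ (tvElt v c) x = ψ (s * c) • x := Iff.rfl

end rep

section weyl
variable {n : ℕ} {F : Type*} [Field F]

/-- the Schrödinger space: complex functions on `F^n` -/
abbrev Fn (n : ℕ) (F : Type*) := (Fin n → F) → ℂ

/-- the position part of a vector -/
def pp (v : Vec n F) : Fin n → F := fun i => v (Sum.inl i)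

/-- the momentum part of a vector -/
def rr (v : Vec n F) : Fin n → F := fun i => v (Sum.inr i)

/-- the Weyl operator `(W(v) f)(x) = ψ (r·x + p·r/2) f(x + p)`, `v = (p, r)` -/
def weyl (ψ : AddChar F ℂ) (v : Vec n F) : Module.End ℂ (Fn n F) where
  toFun f := fun x => ψ (rr v ⬝ᵥ x + 2⁻¹ * (pp v ⬝ᵥ rr v)) * f (x + pp v)
  map_add' f g := by
    funext x
    simp only [Pi.add_apply, mul_add]
  map_smul' k f := by
    funext x
    simp only [Pi.smul_apply, smul_eq_mul, RingHom.id_apply]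
    ring

theorem weyl_apply (ψ : AddChar F ℂ) (v : Vec n F) (f : Fn n F) (x : Fin n → F) :
    weyl ψ v f x = ψ (rr v ⬝ᵥ x + 2⁻¹ * (pp v ⬝ᵥ rr v)) * f (x + pp v) := rfl

/-- the parity operator `f ↦ f(-x)` -/
def parity (n : ℕ) (F : Type*) [Field F] : Module.End ℂ (Fn n F) where
  toFun f := fun x => f (-x)
  map_add' f g := rfl
  map_smul' k f := rfl

theorem parity_apply (f : Fn n F) (x : Fin n → F) : parity n F f x = f (-x) := rfl

/-- the odd functions -/
def oddSp (n : ℕ) (F : Type*) [Field F] : Submodule ℂ (Fn n F) where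
  carrier := {f | ∀ x, f (-x) = -f x}
  add_mem' := by
    intro f g hf hg x
    rw [Pi.add_apply, Pi.add_apply, hf, hg, neg_add]
  zero_mem' := by
    intro x
    simp
  smul_mem' := by
    intro k f hf x
    rw [Pi.smul_apply, Pi.smul_apply, hf, smul_neg]

theorem mem_oddSp (f : Fn n F) : f ∈ oddSp n F ↔ ∀ x, f (-x) = -f x := Iff.rfl

/-- `M` intertwines the Weyl system with its `g`-twist -/
def Intertwines (ψ : AddChar F ℂ) (g : SpG n F) (M : Module.End ℂ (Fn n F)) : Prop :=
  ∀ v : Vec n F, M * weyl ψ v = weyl ψ (sm g *ᵥ v) * M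

end weyl

end Cfsg.Agent.Lib.Helper43.SPMD
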