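import Mathlib
import Cfsg.Agent.Lib.Helper43.SPMD.Defs

/-!
# Project SPMD (helper43): [P-Z] transvection groups
-/

set_option autoImplicit false

namespace Cfsg.Agent.Lib.Helper43.SPMD

open Matrix Module Cfsg.Agent.Lib.Helper13 Cfsg.Agent.Lib.Helper43.SUMD

section P
variable {n : ℕ} {F : Type*} [Field F]

namespace PZ

theorem exists_form_ne_zero {v : Vec n F} (hv : v ≠ 0) : ∃ x : Vec n F, Cfsg.sympForm n F v x ≠ 0 := by
  by_contra hcon
  push Not at hcon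
  exact hv (sympForm_left_nondeg v hcon)

theorem sm_inv_mulVec (g : SpG n F) (x : Vec n F) : sm g *ᵥ (sm g⁻¹ *ᵥ x) = x := by
  rw [mulVec_mulVec, sm_mul_inv, one_mulVec]

end PZ

open PZ

/-- **[P-Z]** -/
theorem tvElt_injective {v : Vec n F} (hv : v ≠ 0) : Function.Injective (tvElt v : F → SpG n F) := by
  intro c c' h
  obtain ⟨x, hx⟩ := exists_form_ne_zero hv
  have hx' : Cfsg.sympForm n F x v ≠ 0 := by
    rw [sympForm_swap]; exact neg_ne_zero.mpr hx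
  have h1 := congrArg (fun g => sm g *ᵥ x) h
  simp only [sm_tvElt_mulVec] at h1
  have h2 : ((c - c') * Cfsg.sympForm n F x v) • v = 0 := by
    have := add_left_cancel h1
    rw [sub_mul, sub_smul, this, sub_self]
  rcases smul_eq_zero.mp h2 with h3 | h3
  · rcases mul_eq_zero.mp h3 with h4 | h4
    · exact sub_eq_zero.mp h4
    · exact absurd h4 hx'
  · exact absurd h3 hv

/-- **[P-Z]** -/
theorem card_Zs [Fintype F] {v : Vec n F} (hv : v ≠ 0) : Nat.card (Zs v) = Fintype.card F := by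
  rw [← Nat.card_eq_fintype_card]
  symm
  apply Nat.card_congr
  refine Equiv.ofBijective (fun c => (⟨tvElt v c, tvElt_mem_Zs v c⟩ : ↥(Zs v))) ⟨?_, ?_⟩
  · intro c c' h
    exact tvElt_injective hv (congrArg Subtype.val h)
  · rintro ⟨g, c, rfl⟩
    exact ⟨c, rfl⟩

/-- **[P-Z]** `g t_{v,c} g⁻¹ = t_{gv,c}` -/
theorem tvElt_conj (g : SpG n F) (v : Vec n F) (c : F) :
    g * tvElt v c * g⁻¹ = tvElt (sm g *ᵥ v) c := by
  apply sm_injective
  rw [Matrix.ext_iff_mulVec]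
  intro x
  rw [sm_mul, sm_mul, ← mulVec_mulVec, ← mulVec_mulVec, sm_tvElt_mulVec, sm_tvElt_mulVec,
    mulVec_add, sm_inv_mulVec, mulVec_smul]
  have : Cfsg.sympForm n F (sm g⁻¹ *ᵥ x) v = Cfsg.sympForm n F x (sm g *ᵥ v) := by
    rw [← sm_preserves g (sm g⁻¹ *ᵥ x) v, sm_inv_mulVec]
  rw [this]

/-- **[P-Z]** `t_{av,c} = t_{v,a²c}` -/
theorem tvElt_smul (a : F) (v : Vec n F) (c : F) : tvElt (a • v) c = tvElt v (a ^ 2 * c) := by
  apply sm_injective
  rw [Matrix.ext_iff_mulVec]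
  intro x
  rw [sm_tvElt_mulVec, sm_tvElt_mulVec, sympForm_smul_right, smul_smul]
  congr 2
  ring

/-- **[P-Z]** -/
theorem Zs_comm (v : Vec n F) : ∀ a ∈ Zs v, ∀ b ∈ Zs v, a * b = b * a := by
  rintro _ ⟨c, rfl⟩ _ ⟨d, rfl⟩
  rw [tvElt_mul, tvElt_mul, add_comm]

/-- **[P-Z]** the character `t_{v,c} ↦ ψ (s c)` of `Z_v` -/
theorem exists_zchar (ψ : AddChar F ℂ) {v : Vec n F} (hv : v ≠ 0) (s : F) :
    ∃ χ : ↥(Zs v) →* ℂˣ, ∀ c, ((χ ⟨tvElt v c, tvElt_mem_Zs v c⟩ : ℂˣ) : ℂ) = ψ (s * c) := by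
  let f : Multiplicative F →* ↥(Zs v) :=
    { toFun := fun c => ⟨tvElt v (Multiplicative.toAdd c), tvElt_mem_Zs v _⟩
      map_one' := by
        apply Subtype.ext
        exact tvElt_zero v
      map_mul' := fun c d => by
        apply Subtype.ext
        exact (tvElt_mul v _ _).symm }
  have hf : Function.Bijective f := by
    constructor
    · intro c c' h
      have := tvElt_injective hv (congrArg Subtype.val h)
      exact this
    · rintro ⟨g, c, rfl⟩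
      exact ⟨Multiplicative.ofAdd c, rfl⟩
  let e : Multiplicative F ≃* ↥(Zs v) := MulEquiv.ofBijective f hf
  let φ : Multiplicative F →* ℂˣ := ((AddChar.mulShift ψ s).toMonoidHom).toHomUnits
  refine ⟨φ.comp e.symm.toMonoidHom, ?_⟩
  intro c
  have h1 : e.symm ⟨tvElt v c, tvElt_mem_Zs v c⟩ = Multiplicative.ofAdd c := by
    rw [MulEquiv.symm_apply_eq]
    rfl
  show ((φ (e.symm ⟨tvElt v c, tvElt_mem_Zs v c⟩) : ℂˣ) : ℂ) = ψ (s * c)
  rw [h1]
  rfl

/-- **[P-Z]** hyperbolic partner -/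
theorem exists_partner {v : Vec n F} (hv : v ≠ 0) : ∃ w : Vec n F, Cfsg.sympForm n F v w = 1 := by
  obtain ⟨x, hx⟩ := exists_form_ne_zero hv
  refine ⟨(Cfsg.sympForm n F v x)⁻¹ • x, ?_⟩
  rw [sympForm_smul_right, inv_mul_cancel₀ hx]

/-- **[P-Z]** transitivity on non-zero vectors -/
theorem exists_map_eq {v z : Vec n F} (hv : v ≠ 0) (hz : z ≠ 0) : ∃ g : SpG n F, sm g *ᵥ v = z := by
  obtain ⟨a, ha⟩ := exists_form_ne_zero hv
  obtain ⟨b, hb⟩ := exists_form_ne_zero hz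
  obtain ⟨A, -, hA⟩ := tv_trans_vec v z a b ha hb
  exact ⟨A, hA⟩

end P

end Cfsg.Agent.Lib.Helper43.SPMD
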