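import Mathlib
import Cfsg.Agent.Lib.Helper43.SPMD.PZ

/-!
# Project SPMD (helper43): [P-TOR] the torus and [T-WT] transport of weight spaces
-/

set_option autoImplicit false

namespace Cfsg.Agent.Lib.Helper43.SPMD

open Matrix Module Cfsg.Agent.Lib.Helper13 Cfsg.Agent.Lib.Helper43.SUMD

section P
variable {n : ℕ} {F : Type*} [Field F]

/-- **[P-TOR]** the torus -/
theorem exists_torus {v w : Vec n F} (h : Cfsg.sympForm n F v w = 1) (a : F) (ha : a ≠ 0) :
    ∃ g : SpG n F, sm g *ᵥ v = a • v := by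
  have h' : Cfsg.sympForm n F (a • v) (a⁻¹ • w) = 1 := by
    rw [sympForm_smul_left, sympForm_smul_right, h, mul_one, mul_inv_cancel₀ ha]
  obtain ⟨A, -, hA, -⟩ := tv_trans_pairs v w (a • v) (a⁻¹ • w) h h'
  exact ⟨A, hA⟩

end P

section T
variable {n : ℕ} {F : Type*} [Field F]
variable {X : Type*} [AddCommGroup X] [Module ℂ X]

/-- **[T-WT]** -/
theorem wtv_zero (ρ : Representation ℂ (SpG n F) X) (ψ : AddChar F ℂ) (v : Vec n F) :
    wtv ρ ψ v 0 = fixedSp ρ (Zs v) := by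
  ext x
  rw [mem_wtv, mem_fixedSp]
  constructor
  · rintro hx _ ⟨c, rfl⟩
    rw [hx c, zero_mul, AddChar.map_zero_eq_one, one_smul]
  · intro hx c
    rw [hx _ (tvElt_mem_Zs v c), zero_mul, AddChar.map_zero_eq_one, one_smul]

namespace TWt

theorem map_mem_wtv (ρ : Representation ℂ (SpG n F) X) (ψ : AddChar F ℂ) (g : SpG n F) (v : Vec n F)
    (s : F) {x : X} (hx : x ∈ wtv ρ ψ v s) : ρ g x ∈ wtv ρ ψ (sm g *ᵥ v) s := by
  intro c
  have h1 : tvElt (sm g *ᵥ v) c * g = g * tvElt v c := by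
    rw [← tvElt_conj]; group
  calc ρ (tvElt (sm g *ᵥ v) c) (ρ g x) = ρ (tvElt (sm g *ᵥ v) c * g) x := by
        rw [map_mul]; rfl
    _ = ρ (g * tvElt v c) x := by rw [h1]
    _ = ρ g (ρ (tvElt v c) x) := by rw [map_mul]; rfl
    _ = ψ (s * c) • ρ g x := by rw [hx c, map_smul]

theorem rho_inv_apply (ρ : Representation ℂ (SpG n F) X) (g : SpG n F) (x : X) :
    ρ g (ρ g⁻¹ x) = x := by
  rw [← Module.End.mul_apply, ← map_mul, mul_inv_cancel, map_one]; rfl

theorem rho_injective (ρ : Representation ℂ (SpG n F) X) (g : SpG n F) : Function.Injective (ρ g) := by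
  intro a b hab
  have := congrArg (ρ g⁻¹) hab
  simpa [← Module.End.mul_apply, ← map_mul] using this

end TWt

open TWt

/-- **[T-WT]** `ρ g` maps the weight spaces of `Z_v` onto those of `Z_{gv}` -/
theorem map_wtv (ρ : Representation ℂ (SpG n F) X) (ψ : AddChar F ℂ) (g : SpG n F) (v : Vec n F)
    (s : F) : (wtv ρ ψ v s).map (ρ g) = wtv ρ ψ (sm g *ᵥ v) s := by
  apply le_antisymm
  · rintro _ ⟨x, hx, rfl⟩
    exact map_mem_wtv ρ ψ g v s hx
  · intro y hy
    refine ⟨ρ g⁻¹ y, ?_, rho_inv_apply ρ g y⟩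
    have := map_mem_wtv ρ ψ g⁻¹ (sm g *ᵥ v) s hy
    rwa [mulVec_mulVec, sm_inv_mul, one_mulVec] at this

/-- **[T-WT]** -/
theorem finrank_wtv_map (ρ : Representation ℂ (SpG n F) X) (ψ : AddChar F ℂ) (g : SpG n F)
    (v : Vec n F) (s : F) :
    finrank ℂ (wtv ρ ψ (sm g *ᵥ v) s) = finrank ℂ (wtv ρ ψ v s) := by
  rw [← map_wtv]
  exact LinearEquiv.finrank_eq
    (Submodule.equivMapOfInjective (ρ g) (rho_injective ρ g) (wtv ρ ψ v s)).symm

/-- **[T-WT]** -/
theorem wtv_smul (ρ : Representation ℂ (SpG n F) X) (ψ : AddChar F ℂ) (a : F) (ha : a ≠ 0)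
    (v : Vec n F) (s : F) : wtv ρ ψ (a • v) (a ^ 2 * s) = wtv ρ ψ v s := by
  ext x
  rw [mem_wtv, mem_wtv]
  constructor
  · intro hx c
    have := hx (c / a ^ 2)
    rw [tvElt_smul] at this
    have e1 : a ^ 2 * (c / a ^ 2) = c := by field_simp
    have e2 : a ^ 2 * s * (c / a ^ 2) = s * c := by field_simp
    rwa [e1, e2] at this
  · intro hx c
    rw [tvElt_smul, hx (a ^ 2 * c)]
    congr 2
    ring

/-- **[T-WT]** the multiplicities are constant on square classes -/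
theorem finrank_wtv_sq (ρ : Representation ℂ (SpG n F) X) (ψ : AddChar F ℂ) {v : Vec n F}
    (hv : v ≠ 0) (a : F) (ha : a ≠ 0) (s : F) :
    finrank ℂ (wtv ρ ψ v (a ^ 2 * s)) = finrank ℂ (wtv ρ ψ v s) := by
  obtain ⟨w, hw⟩ := exists_partner hv
  obtain ⟨g, hg⟩ := exists_torus hw a ha
  rw [← finrank_wtv_map ρ ψ g v (a ^ 2 * s), hg, wtv_smul ρ ψ a ha]

end T

end Cfsg.Agent.Lib.Helper43.SPMD
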