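import Mathlib

set_option autoImplicit false

namespace Cfsg.Agent.Lib.Helper43.SPMD

/-- **[T-ARITH]** -/
theorem arith_two_classes (q n : ℕ) (hq : 3 ≤ q) (hn : 1 ≤ n) :
    (q ^ n - 1) / 2 ≤ (q - 1) * q ^ (n - 1) := by
  obtain ⟨m, rfl⟩ : ∃ m, n = m + 1 := ⟨n - 1, by omega⟩
  rw [Nat.add_sub_cancel]
  have h1 : q ^ (m + 1) = q * q ^ m := by ring
  have hpos : 1 ≤ q ^ m := Nat.one_le_pow _ _ (by omega)
  have h2 : (q - 1) * q ^ m = q * q ^ m - q ^ m := by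
    rw [Nat.sub_mul, one_mul]
  have h3 : 2 * q ^ m ≤ q * q ^ m := by nlinarith
  rw [h1, h2]
  omega

/-- **[T-ARITH]** -/
theorem arith_step (q n : ℕ) (hodd : Odd q) :
    (q ^ n - 1) / 2 + (q - 1) / 2 * q ^ n = (q ^ (n + 1) - 1) / 2 := by
  obtain ⟨k, rfl⟩ := hodd
  have hpow : Odd ((2 * k + 1) ^ n) := Odd.pow ⟨k, rfl⟩
  obtain ⟨j, hj⟩ := hpow
  have h1 : (2 * k + 1) ^ (n + 1) = (2 * k + 1) ^ n * (2 * k + 1) := by ring
  rw [h1, hj]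
  have h2 : (2 * k + 1 - 1) / 2 = k := by omega
  rw [h2]
  have h3 : (2 * j + 1 - 1) / 2 = j := by omega
  rw [h3]
  have h4 : (2 * j + 1) * (2 * k + 1) - 1 = 2 * (j + k * (2 * j + 1)) := by
    have : (2 * j + 1) * (2 * k + 1) = 2 * (j + k * (2 * j + 1)) + 1 := by ring
    omega
  rw [h4, Nat.mul_div_cancel_left _ (by norm_num : 0 < 2)]

end Cfsg.Agent.Lib.Helper43.SPMD
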